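import Mathlib.RingTheory.Flat.Tensor
import Mathlib.RingTheory.Flat.Stability
import Mathlib.RingTheory.Filtration
import Mathlib.RingTheory.Finiteness.Basic
import Mathlib.LinearAlgebra.TensorProduct.RightExactness
import Mathlib.LinearAlgebra.TensorProduct.Tower

/-! Flatness from flatness modulo the powers of an ideal inside the radical. -/

universe u
open TensorProduct

namespace Groth.Agent.FlatAdic

/-- Tensoring a finite module over an algebra with a finitely generated module stays finite. -/
theorem finite_tensor {A B : Type u} [CommRing A] [CommRing B] [Algebra A B] {M N : Type u}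
    [AddCommGroup M] [Module A M] [Module B M] [IsScalarTower A B M] [Module.Finite B M]
    [AddCommGroup N] [Module A N] [Module.Finite A N] : Module.Finite B (M ⊗[A] N) := by
  obtain ⟨n, a, ha⟩ := Module.Finite.exists_fin (R := A) (M := N)
  let φ : (Fin n → M) →ₗ[B] M ⊗[A] N :=
    { toFun := fun v => ∑ i, v i ⊗ₜ a i
      map_add' := fun v w => by simp [add_tmul, Finset.sum_add_distrib]
      map_smul' := fun s v => by simp [Finset.smul_sum, smul_tmul'] }
  refine Module.Finite.of_surjective φ fun z => ?_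
  induction z using TensorProduct.induction_on with
  | zero => exact ⟨0, map_zero φ⟩
  | tmul m b =>
    obtain ⟨c, hc⟩ := (Submodule.mem_span_range_iff_exists_fun A).1 (ha.ge (Submodule.mem_top (x := b)))
    refine ⟨fun i => c i • m, ?_⟩
    show ∑ i, (c i • m) ⊗ₜ a i = m ⊗ₜ b
    simp only [← hc, tmul_sum, smul_tmul]
  | add x y hx hy =>
    obtain ⟨v, rfl⟩ := hx
    obtain ⟨w, rfl⟩ := hy
    exact ⟨v + w, map_add φ v w⟩

/-- If every `M ⧸ J^(n+1) M` is flat over `A`, with `J` in the radical of `B`, then `M` is flat. -/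
theorem flat_of_flat_quotient {A B : Type u} [CommRing A] [CommRing B] [IsNoetherianRing B]
    [Algebra A B] (J : Ideal B) (hJ : J ≤ Ideal.jacobson ⊥) (M : Type u) [AddCommGroup M]
    [Module B M] [Module A M] [IsScalarTower A B M] [Module.Finite B M]
    (h : ∀ n : ℕ, Module.Flat A (M ⧸ (J ^ (n + 1) • (⊤ : Submodule B M)))) :
    Module.Flat A M := by
  rw [Module.Flat.iff_lTensor_injective]
  intro I hI
  haveI : Module.Finite A I := Module.Finite.iff_fg.2 hI
  haveI : Module.Finite B (M ⊗[A] I) := finite_tensor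
  rw [injective_iff_map_eq_zero]
  intro z hz
  suffices ∀ n : ℕ, z ∈ J ^ n • (⊤ : Submodule B (M ⊗[A] I)) by
    have h2 : z ∈ (⨅ n : ℕ, J ^ n • ⊤ : Submodule B (M ⊗[A] I)) := (Submodule.mem_iInf _).2 this
    rwa [Ideal.iInf_pow_smul_eq_bot_of_le_jacobson J hJ, Submodule.mem_bot] at h2
  intro n
  set W := J ^ (n + 1) • (⊤ : Submodule B M) with hW
  let q : M →ₗ[A] M ⧸ W := W.mkQ.restrictScalars A
  have h0 : q.rTensor I z = 0 := by
    haveI := h n
    apply Module.Flat.lTensor_preserves_injective_linearMap (M := M ⧸ W) I.subtype I.injective_subtype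
    rw [map_zero, ← LinearMap.comp_apply, LinearMap.lTensor_comp_rTensor,
      ← LinearMap.rTensor_comp_lTensor, LinearMap.comp_apply, hz, map_zero]
  have hex : Function.Exact (W.subtype.restrictScalars A) q :=
    LinearMap.exact_subtype_mkQ W
  obtain ⟨w, rfl⟩ := (rTensor_exact I hex W.mkQ_surjective z).1 h0
  clear hz h0
  induction w using TensorProduct.induction_on with
  | zero => simp
  | tmul x a =>
    show (x : M) ⊗ₜ[A] a ∈ _
    refine Submodule.smul_induction_on (p := fun m => m ⊗ₜ[A] a ∈ J ^ n • (⊤ : Submodule B (M ⊗[A] I)))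
      x.2 (fun r hr m _ => ?_) (fun p q hp hq => by rw [add_tmul]; exact add_mem hp hq)
    rw [← smul_tmul']
    exact Submodule.smul_mem_smul (Ideal.pow_le_pow_right n.le_succ hr) Submodule.mem_top
  | add p q hp hq => rw [map_add]; exact add_mem hp hq

set_option synthInstance.maxHeartbeats 400000 in
set_option maxHeartbeats 2000000 in
/-- If every `S ⧸ J^n S` is flat over `R ⧸ J^n`, with `J S` in the radical, then `S` is flat. -/
theorem flat_of_flat_truncations {R S : Type u} [CommRing R] [CommRing S] [IsNoetherianRing R]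
    [IsNoetherianRing S] [Algebra R S] (J : Ideal R)
    (hJ : J.map (algebraMap R S) ≤ Ideal.jacobson ⊥)
    (h : ∀ n : ℕ, 0 < n → Module.Flat (R ⧸ J ^ n) ((R ⧸ J ^ n) ⊗[R] S)) : Module.Flat R S := by
  rw [Module.Flat.iff_lTensor_injective]
  intro I hI
  haveI : Module.Finite R I := Module.Finite.iff_fg.2 hI
  haveI : Module.Finite S (S ⊗[R] I) := finite_tensor
  rw [injective_iff_map_eq_zero]
  intro z hz
  suffices ∀ n : ℕ, z ∈ (J.map (algebraMap R S)) ^ n • (⊤ : Submodule S (S ⊗[R] I)) by
    have h2 : z ∈ (⨅ n : ℕ, (J.map (algebraMap R S)) ^ n • ⊤ : Submodule S (S ⊗[R] I)) :=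
      (Submodule.mem_iInf _).2 this
    rwa [Ideal.iInf_pow_smul_eq_bot_of_le_jacobson _ hJ, Submodule.mem_bot] at h2
  intro n
  obtain ⟨c, hc⟩ := Ideal.exists_pow_inf_eq_pow_smul J (M := R) I
  set m := n + c + 1
  have hAR : ∀ x : I, (x : R) ∈ J ^ m → x ∈ J ^ n • (⊤ : Submodule R I) := by
    intro x hx
    rw [Submodule.mem_smul_top_iff]
    have h1 : (x : R) ∈ J ^ m • (⊤ : Submodule R R) ⊓ I := ⟨by simpa using hx, x.2⟩
    rw [hc m (by omega)] at h1
    exact Submodule.smul_mono (Ideal.pow_le_pow_right (by omega)) inf_le_right h1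
  -- the image of `I` in the truncation
  let π : R →ₗ[R] R ⧸ J ^ m := (Algebra.linearMap R (R ⧸ J ^ m))
  let Ib : Ideal (R ⧸ J ^ m) := I.map (Ideal.Quotient.mk (J ^ m))
  let ψ : I →ₗ[R] Ib :=
    (π ∘ₗ I.subtype).codRestrict (Ib.restrictScalars R) fun x => Ideal.mem_map_of_mem _ x.2
  have hψ : Function.Surjective ψ := fun y => by
    obtain ⟨x, hx, hxy⟩ := (Ideal.mem_map_iff_of_surjective _ Ideal.Quotient.mk_surjective).1 y.2
    exact ⟨⟨x, hx⟩, Subtype.ext hxy⟩
  let ι : Ib →ₗ[R] R ⧸ J ^ m := Ib.subtype.restrictScalars R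
  have hι : Function.Injective (ι.rTensor S) := by
    haveI := h m (by omega)
    have hf := Module.Flat.rTensor_preserves_injective_linearMap (M := (R ⧸ J ^ m) ⊗[R] S)
      Ib.subtype Ib.injective_subtype
    have hcomm : (ι.rTensor S) ∘
        (AlgebraTensorModule.cancelBaseChange R (R ⧸ J ^ m) (R ⧸ J ^ m) Ib S) =
        (AlgebraTensorModule.cancelBaseChange R (R ⧸ J ^ m) (R ⧸ J ^ m) (R ⧸ J ^ m) S) ∘
          (Ib.subtype.rTensor ((R ⧸ J ^ m) ⊗[R] S)) := by
      funext t
      induction t using TensorProduct.induction_on with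
      | zero => simp
      | tmul a b =>
        induction b using TensorProduct.induction_on with
        | zero => simp
        | tmul r s =>
          simp only [Function.comp_apply, AlgebraTensorModule.cancelBaseChange_tmul,
            LinearMap.rTensor_tmul]
          rfl
        | add p q hp hq => simp only [Function.comp_apply, tmul_add, map_add] at hp hq ⊢; rw [hp, hq]
      | add p q hp hq => simp only [Function.comp_apply, map_add] at hp hq ⊢; rw [hp, hq]
    have hi : Function.Injective ((ι.rTensor S) ∘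
        (AlgebraTensorModule.cancelBaseChange R (R ⧸ J ^ m) (R ⧸ J ^ m) Ib S)) := by
      rw [hcomm]; exact (LinearEquiv.injective _).comp hf
    exact fun a b hab => by
      obtain ⟨a, rfl⟩ := (AlgebraTensorModule.cancelBaseChange R (R ⧸ J ^ m) (R ⧸ J ^ m) Ib S).surjective a
      obtain ⟨b, rfl⟩ := (AlgebraTensorModule.cancelBaseChange R (R ⧸ J ^ m) (R ⧸ J ^ m) Ib S).surjective b
      rw [hi hab]
  have hι' : Function.Injective (ι.lTensor S) := by
    rw [LinearMap.lTensor_inj_iff_rTensor_inj]; exact hι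
  have h0 : ψ.lTensor S z = 0 := hι' (by
    rw [map_zero, ← LinearMap.comp_apply, ← LinearMap.lTensor_comp,
      show ι ∘ₗ ψ = π ∘ₗ I.subtype from rfl, LinearMap.lTensor_comp, LinearMap.comp_apply, hz,
      map_zero])
  obtain ⟨w, rfl⟩ := (lTensor_exact S (LinearMap.exact_subtype_ker_map ψ) hψ z).1 h0
  clear hz h0
  induction w using TensorProduct.induction_on with
  | zero => simp
  | tmul s x =>
    show s ⊗ₜ[R] (x : I) ∈ _
    have hx : ((x : I) : R) ∈ J ^ m :=
      Ideal.Quotient.eq_zero_iff_mem.1 (congrArg Subtype.val x.2)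
    refine Submodule.smul_induction_on
      (p := fun y => s ⊗ₜ[R] y ∈ (J.map (algebraMap R S)) ^ n • (⊤ : Submodule S (S ⊗[R] I)))
      (hAR _ hx) (fun r hr y _ => ?_) (fun p q hp hq => by rw [tmul_add]; exact add_mem hp hq)
    rw [tmul_smul, ← algebraMap_smul S r, ← Ideal.map_pow]
    exact Submodule.smul_mem_smul (Ideal.mem_map_of_mem _ hr) Submodule.mem_top
  | add p q hp hq => rw [map_add]; exact add_mem hp hq

end Groth.Agent.FlatAdic
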